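import Mathlib
import Groth.Agent.Lib.Helper5.NApprox.PropA

/-!
# fpqc descent of separatedness and properness, and base changes of base changes (helper5)
-/

set_option autoImplicit false

namespace Groth.Agent.H5.PropNhd

open AlgebraicGeometry CategoryTheory Limits MorphismProperty Groth.Agent.H5.NApprox

universe u

/-- Separatedness satisfies fpqc descent. -/
instance isSeparated_descendsAlong_fpqc :
    DescendsAlong @IsSeparated (@Surjective ⊓ @Flat ⊓ @QuasiCompact) := by
  refine ⟨fun {A X Y Z fst snd f g} h hf hfst => ?_⟩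
  haveI : IsSeparated fst := hfst
  have h1 : (diagonal @UniversallyClosed) fst := by
    show UniversallyClosed (pullback.diagonal fst)
    infer_instance
  have h2 : (diagonal @UniversallyClosed) g :=
    of_isPullback_of_descendsAlong (P := diagonal @UniversallyClosed) h hf h1
  haveI h3 : UniversallyClosed (pullback.diagonal g) := h2
  have h4 : IsClosedImmersion (pullback.diagonal g) :=
    IsClosedImmersion.of_isPreimmersion _ (pullback.diagonal g).isClosedMap.isClosed_range
  exact ⟨h4⟩

/-- Properness satisfies fpqc descent. -/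
instance isProper_descendsAlong_fpqc :
    DescendsAlong @IsProper (@Surjective ⊓ @Flat ⊓ @QuasiCompact) := by
  rw [isProper_eq]
  infer_instance

variable {P Q : MorphismProperty Scheme.{u}}

/-- A base change of `f` along `β ≫ p` is a base change of the base change along `p`. -/
theorem of_bc_comp [P.IsStableUnderBaseChange] {X Y Y' Y'' X'' : Scheme.{u}} (f : X ⟶ Y)
    (p : Y' ⟶ Y) (β : Y'' ⟶ Y') {a : X'' ⟶ X} {fi : X'' ⟶ Y''}
    (h : IsPullback a fi f (β ≫ p)) (hP : P (pullback.snd f p)) : P fi := by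
  obtain ⟨γ, -, hγ⟩ := exists_lift_right h (IsPullback.of_hasPullback f p)
  exact P.of_isPullback hγ hP

theorem of_bc_comp_descends [P.DescendsAlong Q] {X Y Y' Y'' : Scheme.{u}} (f : X ⟶ Y)
    (p : Y' ⟶ Y) (β : Y'' ⟶ Y') (hβ : Q β) (hP : P (pullback.snd f (β ≫ p))) :
    P (pullback.snd f p) := by
  obtain ⟨γ, -, hγ⟩ := exists_lift_right (IsPullback.of_hasPullback f (β ≫ p))
    (IsPullback.of_hasPullback f p)
  exact of_isPullback_of_descendsAlong hγ.flip hβ hP

/-- Descent of a property of the base change of `f : X ⟶ Y` over `S` along `τ ≫ t`. -/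
theorem bcS_descends [P.DescendsAlong Q] [Q.IsStableUnderBaseChange] {S X Y T T' : Scheme.{u}}
    (f : X ⟶ Y) (g : Y ⟶ S) (t : T ⟶ S) (τ : T' ⟶ T) (hτ : Q τ)
    (hP : P (pullback.snd f (pullback.fst g (τ ≫ t)))) :
    P (pullback.snd f (pullback.fst g t)) := by
  obtain ⟨β, hβ, hβpb⟩ := exists_lift_right (IsPullback.of_hasPullback g (τ ≫ t))
    (IsPullback.of_hasPullback g t)
  have hQβ : Q β := Q.of_isPullback hβpb.flip hτ
  rw [← hβ] at hP
  exact of_bc_comp_descends f _ β hQβ hP

theorem bcS_comp [P.IsStableUnderBaseChange] {S X Y T T' : Scheme.{u}}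
    (f : X ⟶ Y) (g : Y ⟶ S) (t : T ⟶ S) (τ : T' ⟶ T)
    (hP : P (pullback.snd f (pullback.fst g t))) :
    P (pullback.snd f (pullback.fst g (τ ≫ t))) := by
  obtain ⟨β, hβ, -⟩ := exists_lift_right (IsPullback.of_hasPullback g (τ ≫ t))
    (IsPullback.of_hasPullback g t)
  rw [← hβ]
  exact of_bc_comp f _ β (IsPullback.of_hasPullback _ _) hP

end Groth.Agent.H5.PropNhd
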