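import Mathlib
import Groth.Agent.Lib.Helper5.PropNhd.PnA
import Groth.Agent.Lib.Helper5.NApprox.FieldA

/-!
# Spreading out properness from the local ring of the base (helper5)
-/

set_option autoImplicit false

namespace Groth.Agent.H5.PropNhd

open AlgebraicGeometry CategoryTheory Limits MorphismProperty Groth.Agent.H5.NApprox

universe u

section StalkLim

variable {X T : Scheme.{u}} (x : X) (b : X ⟶ T)

/-- `Spec 𝒪_{X,x}` is the limit of the basic open neighbourhoods of `x`, in schemes. -/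
noncomputable def stIsLimitForget [IsAffine X] :
    IsLimit ((Over.forget T).mapCone (stCone x b)) := by
  refine { lift := fun s => stLift s, fac := ?_, uniq := ?_ }
  · intro s a
    show stLift s ≫ (X.basicOpen a.f).fromSpecStalkOfMem x a.mem = stσ s a
    rw [← cancel_mono (X.basicOpen a.f).ι, Category.assoc, Scheme.Opens.fromSpecStalkOfMem_ι,
      stLift_fac, stG_eq s a]
  · intro s m hm
    let m' : s.pt ⟶ Spec (X.presheaf.stalk x) := m
    show m' = stLift s
    rw [← cancel_mono (X.fromSpecStalk x), stLift_fac]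
    show m' ≫ _ = stσ s (BI.one x) ≫ _
    rw [← (show m' ≫ (X.basicOpen (BI.one x).f).fromSpecStalkOfMem x (BI.one x).mem =
      stσ s (BI.one x) from hm _), Category.assoc, Scheme.Opens.fromSpecStalkOfMem_ι]

end StalkLim

/-- If the base change of `f : X ⟶ Y` (over `S`) to the local ring of `S` at a point is proper,
then `f` is proper over an open neighbourhood of the point. -/
theorem exists_nhd_isProper {S X Y : Scheme.{u}} (f : X ⟶ Y) (g : Y ⟶ S)
    [QuasiCompact g] [QuasiSeparated g] [QuasiCompact (f ≫ g)] [QuasiSeparated (f ≫ g)]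
    [LocallyOfFiniteType f] (U : S.Opens) (hU : IsAffineOpen U) (x : U.toScheme)
    (h : IsProper (pullback.snd f (pullback.fst g (S.fromSpecStalk (U.ι x))))) :
    ∃ W : S.Opens, U.ι x ∈ W ∧ IsProper (f ∣_ (g ⁻¹ᵁ W)) := by
  classical
  haveI : IsAffine U.toScheme := hU
  let b : U.toScheme ⟶ S := U.ι
  let D : BI x ⥤ Scheme.{u} := stD x b ⋙ Over.forget S
  let c : Cone D := (Over.forget S).mapCone (stCone x b)
  have hc : IsLimit c := stIsLimitForget x b
  haveI : ∀ (i j : BI x) (φ : i ⟶ j), IsAffineHom (D.map φ) := fun i j φ =>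
    stD_isAffineHom x b φ
  let i₀ : BI x := BI.one x
  haveI : IsAffine (D.obj i₀) := stD_isAffine x b i₀
  let t : ∀ a : BI x, D.obj a ⟶ S := fun a => ((stD x b).obj a).hom
  have ht : ∀ {a a' : BI x} (φ : a ⟶ a'), D.map φ ≫ t a' = t a := fun φ =>
    CategoryTheory.Over.w ((stD x b).map φ)
  let tl : c.pt ⟶ S := U.toScheme.fromSpecStalk x ≫ b
  have htl : ∀ a, c.π.app a ≫ t a = tl := fun a =>
    CategoryTheory.Over.w ((stCone x b).π.app a)
  -- properness over the limit
  have hl : IsProper (pullback.snd f (pullback.fst g tl)) := by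
    have h1 := bcS_comp (P := @IsProper) f g (S.fromSpecStalk (U.ι x))
      (Spec.map (U.ι.stalkMap x)) h
    rw [Scheme.SpecMap_stalkMap_fromSpecStalk] at h1
    exact h1
  -- the stage `i₀`
  obtain ⟨qY, hqY, hY⟩ := exists_lift_right (h₂₁ := c.π.app i₀) (h₂₂ := t i₀)
    (by rw [htl]; exact IsPullback.of_hasPullback g tl) (IsPullback.of_hasPullback g (t i₀))
  obtain ⟨qX, hqX, hX⟩ := exists_lift_right (h₂₁ := qY) (h₂₂ := pullback.fst g (t i₀))
    (by rw [hqY]; exact IsPullback.of_hasPullback f (pullback.fst g tl))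
    (IsPullback.of_hasPullback f (pullback.fst g (t i₀)))
  haveI : CompactSpace (pullback g (t i₀) : Scheme.{u}) :=
    QuasiCompact.compactSpace_of_compactSpace (pullback.snd g (t i₀))
  haveI : QuasiSeparatedSpace (pullback g (t i₀) : Scheme.{u}) :=
    quasiSeparatedSpace_of_quasiSeparated (pullback.snd g (t i₀))
  have hX₀ : IsPullback (pullback.fst f (pullback.fst g (t i₀)))
      (pullback.snd f (pullback.fst g (t i₀)) ≫ pullback.snd g (t i₀)) (f ≫ g) (t i₀) :=
    (IsPullback.of_hasPullback f (pullback.fst g (t i₀))).paste_vert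
      (IsPullback.of_hasPullback g (t i₀))
  haveI : QuasiCompact (pullback.snd f (pullback.fst g (t i₀)) ≫ pullback.snd g (t i₀)) :=
    MorphismProperty.of_isPullback (P := @QuasiCompact) hX₀ inferInstance
  haveI : QuasiSeparated (pullback.snd f (pullback.fst g (t i₀)) ≫ pullback.snd g (t i₀)) :=
    MorphismProperty.of_isPullback (P := @QuasiSeparated) hX₀ inferInstance
  haveI : CompactSpace (pullback f (pullback.fst g (t i₀)) : Scheme.{u}) :=
    QuasiCompact.compactSpace_of_compactSpace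
      (pullback.snd f (pullback.fst g (t i₀)) ≫ pullback.snd g (t i₀))
  haveI : QuasiSeparatedSpace (pullback f (pullback.fst g (t i₀)) : Scheme.{u}) :=
    quasiSeparatedSpace_of_quasiSeparated
      (pullback.snd f (pullback.fst g (t i₀)) ≫ pullback.snd g (t i₀))
  haveI : IsProper (pullback.snd f (pullback.fst g tl)) := hl
  obtain ⟨i, φ, Xi, Yi, fi, gi, pY, pX, hpY, hpX, hfi⟩ :=
    exists_isProper_descend D c hc i₀ (pullback.snd f (pullback.fst g (t i₀)))
      (pullback.snd g (t i₀)) (pullback.snd f (pullback.fst g tl)) (pullback.snd g tl) qY qX hY hX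
  have Hf : IsPullback (pX ≫ pullback.fst f (pullback.fst g (t i₀))) fi f
      (pY ≫ pullback.fst g (t i₀)) :=
    hpX.paste_horiz (IsPullback.of_hasPullback f (pullback.fst g (t i₀)))
  have Hg : IsPullback (pY ≫ pullback.fst g (t i₀)) gi g (t i) := by
    have h1 := hpY.paste_horiz (IsPullback.of_hasPullback g (t i₀))
    rwa [ht φ] at h1
  haveI : IsOpenImmersion (t i) := by
    show IsOpenImmersion ((U.toScheme.basicOpen i.f).ι ≫ U.ι)
    infer_instance
  haveI : IsOpenImmersion (pY ≫ pullback.fst g (t i₀)) :=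
    MorphismProperty.of_isPullback (P := @IsOpenImmersion) Hg.flip inferInstance
  let W : S.Opens := (t i).opensRange
  have hsW : U.ι x ∈ W := ⟨⟨x, i.mem⟩, rfl⟩
  have hrange : Set.range (g ⁻¹ᵁ W).ι ⊆ Set.range (pY ≫ pullback.fst g (t i₀)) := by
    rintro _ ⟨v, rfl⟩
    have hv : g ((g ⁻¹ᵁ W).ι v) ∈ W := v.2
    obtain ⟨w, hw⟩ := hv
    obtain ⟨z, hz, -⟩ := Scheme.exists_preimage_of_isPullback Hg ((g ⁻¹ᵁ W).ι v) w hw.symm
    exact ⟨z, hz⟩
  have hβ : IsOpenImmersion.lift (pY ≫ pullback.fst g (t i₀)) (g ⁻¹ᵁ W).ι hrange ≫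
      (pY ≫ pullback.fst g (t i₀)) = (g ⁻¹ᵁ W).ι := IsOpenImmersion.lift_fac _ _ _
  have hres : IsPullback (f ⁻¹ᵁ (g ⁻¹ᵁ W)).ι (f ∣_ (g ⁻¹ᵁ W)) f
      (IsOpenImmersion.lift (pY ≫ pullback.fst g (t i₀)) (g ⁻¹ᵁ W).ι hrange ≫
        (pY ≫ pullback.fst g (t i₀))) := by
    rw [hβ]
    exact (isPullback_morphismRestrict f (g ⁻¹ᵁ W)).flip
  obtain ⟨γ, -, hγ⟩ := exists_lift_right hres Hf
  exact ⟨W, hsW, MorphismProperty.of_isPullback (P := @IsProper) hγ hfi⟩

end Groth.Agent.H5.PropNhd
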